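import Mathlib

set_option autoImplicit false

namespace Groth.Agent.H5.TruncDef

open Polynomial KaehlerDifferential

universe u

section DStruct

variable {k : Type u} [Field k] {n : ℕ}
  {D : Type u} [CommRing D] [Algebra k D] {τ : D}
  (e : (k[X] ⧸ Ideal.span {(X : k[X]) ^ (n + 1)}) ≃ₐ[k] D)
  (he : e (Ideal.Quotient.mk (Ideal.span {(X : k[X]) ^ (n + 1)}) X) = τ)

include he in
lemma e_mk (p : k[X]) :
    e (Ideal.Quotient.mk (Ideal.span {(X : k[X]) ^ (n + 1)}) p) = aeval τ p := by
  have : (e.toAlgHom.comp (Ideal.Quotient.mkₐ k (Ideal.span {(X : k[X]) ^ (n + 1)}))) =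
      aeval τ := by
    apply Polynomial.algHom_ext
    simp only [AlgHom.comp_apply, Ideal.Quotient.mkₐ_eq_mk, aeval_X]
    exact he
  exact AlgHom.congr_fun this p

include he in
lemma aeval_surj (d : D) : ∃ p : k[X], aeval τ p = d := by
  obtain ⟨q, rfl⟩ := e.surjective d
  obtain ⟨p, rfl⟩ := Ideal.Quotient.mk_surjective q
  exact ⟨p, (e_mk e he p).symm⟩

include he in
lemma aeval_eq_zero_iff (p : k[X]) : aeval τ p = 0 ↔ (X : k[X]) ^ (n + 1) ∣ p := by
  rw [← e_mk e he, map_eq_zero_iff e e.injective, Ideal.Quotient.eq_zero_iff_mem,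
    Ideal.mem_span_singleton]

include he in
lemma tau_pow : τ ^ (n + 1) = 0 := by
  have := (aeval_eq_zero_iff e he ((X : k[X]) ^ (n + 1))).mpr dvd_rfl
  simpa using this

include he in
lemma decomp (d : D) : ∃ (c : k) (d' : D), d = algebraMap k D c + τ * d' := by
  obtain ⟨p, rfl⟩ := aeval_surj e he d
  refine ⟨p.coeff 0, aeval τ p.divX, ?_⟩
  conv_lhs => rw [← Polynomial.divX_mul_X_add p]
  simp only [map_add, map_mul, aeval_X, aeval_C]
  ring

include he in
lemma prime_eq (I : Ideal D) [I.IsPrime] : I = Ideal.span {τ} := by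
  have hτ : τ ∈ I := by
    apply Ideal.IsPrime.mem_of_pow_mem ‹_› (n + 1)
    rw [tau_pow e he]
    exact I.zero_mem
  apply le_antisymm
  · intro x hx
    obtain ⟨c, d', rfl⟩ := decomp e he x
    have hc : algebraMap k D c ∈ I := by
      have := I.sub_mem hx (I.mul_mem_right d' hτ)
      simpa using this
    have hc0 : c = 0 := by
      by_contra hne
      have hu : IsUnit (algebraMap k D c) := (IsUnit.mk0 c hne).map _
      exact (Ideal.IsPrime.ne_top ‹_›) (Ideal.eq_top_of_isUnit_mem _ hc hu)
    rw [hc0, map_zero, zero_add]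
    exact Ideal.mul_mem_right _ _ (Ideal.mem_span_singleton_self τ)
  · rw [Ideal.span_le, Set.singleton_subset_iff]
    exact hτ

include he in
lemma prime_isMaximal (I : Ideal D) [hI : I.IsPrime] : I.IsMaximal := by
  rw [Ideal.isMaximal_iff]
  refine ⟨(Ideal.ne_top_iff_one I).mp hI.ne_top, ?_⟩
  intro J x hIJ hxI hxJ
  have hτ : τ ∈ I := by
    rw [prime_eq e he I]
    exact Ideal.mem_span_singleton_self τ
  obtain ⟨c, d', rfl⟩ := decomp e he x
  have hcJ : algebraMap k D c ∈ J := by
    have := J.sub_mem hxJ (hIJ (I.mul_mem_right d' hτ))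
    simpa using this
  have hc0 : c ≠ 0 := by
    rintro rfl
    apply hxI
    rw [map_zero, zero_add]
    exact I.mul_mem_right d' hτ
  have hu : IsUnit (algebraMap k D c) := (IsUnit.mk0 c hc0).map _
  rw [← Ideal.eq_top_iff_one]
  exact Ideal.eq_top_of_isUnit_mem _ hcJ hu

include he in
lemma quotient_surj (I : Ideal D) [I.IsPrime] (y : D ⧸ I) :
    ∃ c : k, algebraMap k (D ⧸ I) c = y := by
  obtain ⟨d, rfl⟩ := Ideal.Quotient.mk_surjective y
  obtain ⟨c, d', rfl⟩ := decomp e he d
  refine ⟨c, ?_⟩
  have hτ : τ ∈ I := by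
    rw [prime_eq e he I]
    exact Ideal.mem_span_singleton_self τ
  rw [map_add, Ideal.Quotient.eq_zero_iff_mem.mpr (I.mul_mem_right d' hτ), add_zero]
  rfl

include he in
lemma span_D_tau : Submodule.span D {KaehlerDifferential.D k D τ} = ⊤ := by
  rw [eq_top_iff, ← KaehlerDifferential.span_range_derivation k D, Submodule.span_le]
  rintro _ ⟨x, rfl⟩
  obtain ⟨p, rfl⟩ := aeval_surj e he x
  rw [Derivation.map_aeval]
  exact Submodule.smul_mem _ _ (Submodule.subset_span rfl)

include he in
lemma deriv_wd (p q : k[X]) (h : aeval τ p = aeval τ q) :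
    Ideal.Quotient.mk (Ideal.span {τ ^ n}) (aeval τ (derivative p)) =
      Ideal.Quotient.mk (Ideal.span {τ ^ n}) (aeval τ (derivative q)) := by
  have h0 : aeval τ (p - q) = 0 := by rw [map_sub, h, sub_self]
  obtain ⟨r, hr⟩ := (aeval_eq_zero_iff e he (p - q)).mp h0
  have hd : derivative p - derivative q =
      C ((n : k) + 1) * X ^ n * r + X ^ (n + 1) * derivative r := by
    rw [← derivative_sub, hr, derivative_mul, derivative_X_pow]
    simp only [Nat.cast_add, Nat.cast_one, Nat.add_sub_cancel, map_add, map_natCast, map_one]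
  rw [← sub_eq_zero, ← map_sub, ← map_sub, hd, Ideal.Quotient.eq_zero_iff_mem]
  simp only [map_add, map_mul, map_pow, aeval_X, aeval_C, tau_pow e he, zero_mul, add_zero]
  rw [Ideal.mem_span_singleton]
  exact ⟨algebraMap k D ((n : k) + 1) * aeval τ r, by rw [map_add]; ring⟩

/-- A section of `aeval τ`. -/
noncomputable def sec (d : D) : k[X] := Classical.choose (aeval_surj e he d)

lemma aeval_sec (d : D) : aeval τ (sec e he d) = d := Classical.choose_spec (aeval_surj e he d)

/-- The function underlying `d/dτ`. -/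
noncomputable def dFun (d : D) : D ⧸ Ideal.span {τ ^ n} :=
  Ideal.Quotient.mk (Ideal.span {τ ^ n}) (aeval τ (derivative (sec e he d)))

lemma dFun_aeval (p : k[X]) :
    dFun e he (aeval τ p) = Ideal.Quotient.mk (Ideal.span {τ ^ n}) (aeval τ (derivative p)) :=
  deriv_wd e he _ _ (aeval_sec e he _)

/-- The derivation `d/dτ : D → D/(τ^n)`. -/
noncomputable def ddτ : Derivation k D (D ⧸ Ideal.span {τ ^ n}) :=
  Derivation.mk'
    { toFun := dFun e he
      map_add' := fun x y => by
        obtain ⟨p, rfl⟩ := aeval_surj e he x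
        obtain ⟨q, rfl⟩ := aeval_surj e he y
        rw [← map_add, dFun_aeval, dFun_aeval, dFun_aeval, derivative_add, map_add, map_add]
      map_smul' := fun c x => by
        obtain ⟨p, rfl⟩ := aeval_surj e he x
        rw [← map_smul, dFun_aeval, dFun_aeval, derivative_smul, map_smul, RingHom.id_apply]
        rfl }
    (fun x y => by
      obtain ⟨p, rfl⟩ := aeval_surj e he x
      obtain ⟨q, rfl⟩ := aeval_surj e he y
      change dFun e he (aeval τ p * aeval τ q) = aeval τ p • dFun e he (aeval τ q) +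
        aeval τ q • dFun e he (aeval τ p)
      rw [← map_mul, dFun_aeval, dFun_aeval, dFun_aeval, derivative_mul]
      simp only [map_add, map_mul, Algebra.smul_def, Ideal.Quotient.algebraMap_eq]
      ring)

lemma ddτ_tau : ddτ e he τ = 1 := by
  change dFun e he τ = 1
  have := dFun_aeval e he (X : k[X])
  rw [aeval_X] at this
  rw [this]
  simp

end DStruct

end Groth.Agent.H5.TruncDef
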