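import Mathlib
import Groth.Agent.Lib.Helper5.TruncDef.A

set_option autoImplicit false

namespace Groth.Agent.H5.TruncDef

open Polynomial KaehlerDifferential TensorProduct

universe u

section FS

variable (k : Type u) [Field k] (D : Type u) [CommRing D] [Algebra k D]
  (B : Type u) [CommRing B] [Algebra k B] [Algebra D B] [IsScalarTower k D B]
  (I : Ideal D) [I.IsMaximal]
  (hsurj : Function.Surjective (algebraMap k (D ⧸ I)))
  [Algebra.FormallySmooth k (B ⧸ I.map (algebraMap D B))]

include hsurj in
theorem formallySmooth_fiber : Algebra.FormallySmooth I.ResidueField (I.Fiber B) := by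
  -- Step 2: `k → κ` surjective, hence formally unramified
  have hκ : Function.Surjective (algebraMap k I.ResidueField) := by
    intro y
    obtain ⟨z, rfl⟩ := (Ideal.bijective_algebraMap_quotient_residueField I).surjective y
    obtain ⟨c, rfl⟩ := hsurj z
    exact ⟨c, by rw [← IsScalarTower.algebraMap_apply]⟩
  haveI : Algebra.FormallyUnramified k I.ResidueField :=
    Algebra.FormallyUnramified.of_surjective (Algebra.ofId k I.ResidueField) hκ
  -- Step 1: the fibre is `B / I B` as a `k`-algebra
  let e1 : (B ⧸ I.map (algebraMap D B)) ≃ₐ[B] B ⊗[D] (D ⧸ I) :=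
    Algebra.TensorProduct.quotIdealMapEquivTensorQuot B I
  let e2 : (D ⧸ I) ≃ₐ[D] I.ResidueField :=
    AlgEquiv.ofBijective (IsScalarTower.toAlgHom D (D ⧸ I) I.ResidueField)
      (Ideal.bijective_algebraMap_quotient_residueField I)
  let e3 : B ⊗[D] (D ⧸ I) ≃ₐ[D] B ⊗[D] I.ResidueField :=
    Algebra.TensorProduct.congr AlgEquiv.refl e2
  let e4 : B ⊗[D] I.ResidueField ≃ₐ[D] I.ResidueField ⊗[D] B :=
    Algebra.TensorProduct.comm D B I.ResidueField
  let e5 : (B ⧸ I.map (algebraMap D B)) ≃ₐ[k] I.ResidueField ⊗[D] B :=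
    (e1.restrictScalars k).trans ((e3.trans e4).restrictScalars k)
  haveI : Algebra.FormallySmooth k (I.ResidueField ⊗[D] B) := Algebra.FormallySmooth.of_equiv e5
  exact Algebra.FormallySmooth.of_restrictScalars k I.ResidueField (I.ResidueField ⊗[D] B)

end FS

section Smooth

variable {k : Type u} [Field k] {n : ℕ}
  {D : Type u} [CommRing D] [Algebra k D] {τ : D}
  (e : (k[X] ⧸ Ideal.span {(X : k[X]) ^ (n + 1)}) ≃ₐ[k] D)
  (he : e (Ideal.Quotient.mk (Ideal.span {(X : k[X]) ^ (n + 1)}) X) = τ)
  (B : Type u) [CommRing B] [Algebra k B] [Algebra D B] [IsScalarTower k D B]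
  [Algebra.FiniteType k B] [Module.Flat D B]
  (t : B) (ht : t = algebraMap D B τ) (hsm : Algebra.Smooth k (B ⧸ Ideal.span {t}))

include he ht hsm in
theorem smooth_over_D : Algebra.Smooth D B := by
  haveI : IsNoetherianRing D := isNoetherianRing_of_ringEquiv _ e.toRingEquiv
  haveI : Algebra.FiniteType D B := Algebra.FiniteType.of_restrictScalars_finiteType k D B
  haveI : Algebra.FinitePresentation D B :=
    Algebra.FinitePresentation.of_finiteType.mp inferInstance
  apply Algebra.Smooth.of_formallySmooth_fiber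
  intro I hI
  haveI := prime_isMaximal e he I
  have hI' : I = Ideal.span {τ} := prime_eq e he I
  have hmap : I.map (algebraMap D B) = Ideal.span {t} := by
    rw [hI', Ideal.map_span, Set.image_singleton, ht]
  haveI : Algebra.FormallySmooth k (B ⧸ I.map (algebraMap D B)) := by
    rw [hmap]
    infer_instance
  exact formallySmooth_fiber k D B I (fun y => quotient_surj e he I y)

end Smooth

end Groth.Agent.H5.TruncDef
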