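import Mathlib
import Groth.Agent.Lib.Helper5.TruncDef.B

set_option autoImplicit false

namespace Groth.Agent.H5.TruncDef

open Polynomial KaehlerDifferential TensorProduct

universe u

section Seq

variable {k : Type u} [Field k] {n : ℕ}
  {D : Type u} [CommRing D] [Algebra k D] {τ : D}
  (e : (k[X] ⧸ Ideal.span {(X : k[X]) ^ (n + 1)}) ≃ₐ[k] D)
  (he : e (Ideal.Quotient.mk (Ideal.span {(X : k[X]) ^ (n + 1)}) X) = τ)
  (B : Type u) [CommRing B] [Algebra k B] [Algebra D B] [IsScalarTower k D B]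
  (t : B) (ht : t = algebraMap D B τ)

/-- The map `D/(τ^n) → B/(t^n)`. -/
noncomputable def phiLin : (D ⧸ Ideal.span {τ ^ n}) →ₗ[D] (B ⧸ Ideal.span {t ^ n}) :=
  Submodule.liftQ (Ideal.span {τ ^ n}) (Algebra.linearMap D (B ⧸ Ideal.span {t ^ n})) (by
    rw [Ideal.span_le, Set.singleton_subset_iff]
    change algebraMap D (B ⧸ Ideal.span {t ^ n}) (τ ^ n) = 0
    rw [IsScalarTower.algebraMap_apply D B (B ⧸ Ideal.span {t ^ n}), map_pow, ← ht,
      Ideal.Quotient.algebraMap_eq, Ideal.Quotient.eq_zero_iff_mem]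
    exact Ideal.mem_span_singleton_self _)

lemma phiLin_one : phiLin (n := n) B t ht (1 : D ⧸ Ideal.span {τ ^ n}) = 1 := by
  change phiLin (n := n) B t ht (Submodule.Quotient.mk (1 : D)) = 1
  rw [phiLin, Submodule.liftQ_apply]
  simp

variable [Algebra.FiniteType k B] [Module.Flat D B]
  (hsm : Algebra.Smooth k (B ⧸ Ideal.span {t}))

include he ht hsm in
theorem mapBaseChange_injective : Function.Injective (mapBaseChange k D B) := by
  haveI := smooth_over_D e he B t ht hsm
  rw [injective_iff_map_eq_zero]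
  intro x hx
  obtain ⟨y, rfl⟩ := (Algebra.H1Cotangent.exact_δ_mapBaseChange k D B x).mp hx
  rw [Subsingleton.elim y 0, map_zero]

include ht in
lemma D_t_eq : KaehlerDifferential.D k B t =
    mapBaseChange k D B ((1 : B) ⊗ₜ[D] KaehlerDifferential.D k D τ) := by
  rw [mapBaseChange_tmul, one_smul, map_D, ht]

include he ht hsm in
theorem exists_rho0 :
    ∃ ρ0 : Ω[B⁄k] →ₗ[B] (B ⧸ Ideal.span {t ^ n}), ρ0 (KaehlerDifferential.D k B t) = 1 := by
  haveI := smooth_over_D e he B t ht hsm
  have hex := KaehlerDifferential.exact_mapBaseChange_map k D B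
  have hinj := mapBaseChange_injective e he B t ht hsm
  have hsurj : Function.Surjective (KaehlerDifferential.map k D B B) :=
    KaehlerDifferential.map_surjective k D B
  obtain ⟨l, hl⟩ := Module.projective_lifting_property (KaehlerDifferential.map k D B B)
    LinearMap.id hsurj
  obtain ⟨e1, he1, -⟩ := hex.splitSurjectiveEquiv hinj ⟨l, hl⟩
  let lam : Ω[D⁄k] →ₗ[D] (D ⧸ Ideal.span {τ ^ n}) := (ddτ e he).liftKaehlerDifferential
  have hlam : lam (KaehlerDifferential.D k D τ) = 1 := by
    rw [Derivation.liftKaehlerDifferential_comp_D, ddτ_tau]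
  let μ : B ⊗[D] Ω[D⁄k] →ₗ[B] (B ⧸ Ideal.span {t ^ n}) :=
    LinearMap.liftBaseChange B ((phiLin (n := n) B t ht) ∘ₗ lam)
  refine ⟨μ ∘ₗ (LinearMap.fst B _ _) ∘ₗ e1.toLinearMap, ?_⟩
  rw [D_t_eq (k := k) B t ht]
  have h1 : e1 (mapBaseChange k D B ((1 : B) ⊗ₜ[D] KaehlerDifferential.D k D τ)) =
      ((1 : B) ⊗ₜ[D] KaehlerDifferential.D k D τ, 0) := by
    rw [he1]
    simp
  simp only [LinearMap.comp_apply, LinearEquiv.coe_coe, h1, LinearMap.fst_apply, μ,
    LinearMap.liftBaseChange_tmul, hlam, phiLin_one, one_smul]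

include ht in
omit [Algebra.FiniteType k B] [Module.Flat D B] in
lemma map_D_t : KaehlerDifferential.map k D B B (KaehlerDifferential.D k B t) = 0 := by
  rw [map_D, ht]
  exact (KaehlerDifferential.D D B).map_algebraMap τ

include he ht hsm in
theorem toSpanSingleton_injective :
    Function.Injective
      (LinearMap.toSpanSingleton (B ⧸ Ideal.span {t ^ n}) ((B ⧸ Ideal.span {t ^ n}) ⊗[B] Ω[B⁄k])
        ((1 : (B ⧸ Ideal.span {t ^ n})) ⊗ₜ[B] KaehlerDifferential.D k B t)) := by
  obtain ⟨ρ0, hρ0⟩ := exists_rho0 e he B t ht hsm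
  let ρ : (B ⧸ Ideal.span {t ^ n}) ⊗[B] Ω[B⁄k] →ₗ[B ⧸ Ideal.span {t ^ n}]
      (B ⧸ Ideal.span {t ^ n}) := LinearMap.liftBaseChange _ ρ0
  rw [injective_iff_map_eq_zero]
  intro b hb
  have h2 := congrArg ρ hb
  rw [LinearMap.toSpanSingleton_apply, map_smul, map_zero, LinearMap.liftBaseChange_tmul, hρ0,
    one_smul, smul_eq_mul, mul_one] at h2
  exact h2

include he ht in
omit [Algebra.FiniteType k B] [Module.Flat D B] in
lemma lTensor_mem_range (z : (B ⧸ Ideal.span {t ^ n}) ⊗[B] (B ⊗[D] Ω[D⁄k])) :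
    (LinearMap.lTensor (B ⧸ Ideal.span {t ^ n}) (mapBaseChange k D B)) z ∈
      LinearMap.range
      (LinearMap.toSpanSingleton (B ⧸ Ideal.span {t ^ n}) ((B ⧸ Ideal.span {t ^ n}) ⊗[B] Ω[B⁄k])
        ((1 : (B ⧸ Ideal.span {t ^ n})) ⊗ₜ[B] KaehlerDifferential.D k B t)) := by
  induction z using TensorProduct.induction_on with
  | zero => simp
  | add z1 z2 h1 h2 =>
    rw [map_add]
    exact Submodule.add_mem _ h1 h2
  | tmul b' w =>
    induction w using TensorProduct.induction_on with
    | zero => simp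
    | add w1 w2 h1 h2 =>
      rw [TensorProduct.tmul_add, map_add]
      exact Submodule.add_mem _ h1 h2
    | tmul b ω =>
      have hω : ω ∈ Submodule.span D {KaehlerDifferential.D k D τ} := by
        rw [span_D_tau e he]
        exact Submodule.mem_top
      obtain ⟨d, rfl⟩ := Submodule.mem_span_singleton.mp hω
      refine ⟨b' * Ideal.Quotient.mk _ (b * algebraMap D B d), ?_⟩
      rw [LinearMap.toSpanSingleton_apply, LinearMap.lTensor_tmul, mapBaseChange_tmul,
        LinearMap.map_smul_of_tower, map_D, ← ht, TensorProduct.smul_tmul', smul_eq_mul, mul_one]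
      rw [← algebraMap_smul B d (KaehlerDifferential.D k B t), smul_smul,
        ← TensorProduct.smul_tmul, Algebra.smul_def, Ideal.Quotient.algebraMap_eq, mul_comm]

include he ht in
omit [Algebra.FiniteType k B] [Module.Flat D B] in
theorem exact_seq :
    Function.Exact
      (LinearMap.toSpanSingleton (B ⧸ Ideal.span {t ^ n}) ((B ⧸ Ideal.span {t ^ n}) ⊗[B] Ω[B⁄k])
        ((1 : (B ⧸ Ideal.span {t ^ n})) ⊗ₜ[B] KaehlerDifferential.D k B t))
      (LinearMap.baseChange (B ⧸ Ideal.span {t ^ n}) (KaehlerDifferential.map k D B B)) := by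
  have hex := KaehlerDifferential.exact_mapBaseChange_map k D B
  have hsurj : Function.Surjective (KaehlerDifferential.map k D B B) :=
    KaehlerDifferential.map_surjective k D B
  have hex' := lTensor_exact (B ⧸ Ideal.span {t ^ n}) hex hsurj
  intro y
  constructor
  · intro hy
    have hy' : (LinearMap.lTensor (B ⧸ Ideal.span {t ^ n}) (KaehlerDifferential.map k D B B)) y =
        0 := hy
    obtain ⟨z, rfl⟩ := (hex' y).mp hy'
    exact lTensor_mem_range e he B t ht z
  · rintro ⟨b', rfl⟩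
    rw [LinearMap.toSpanSingleton_apply, map_smul, LinearMap.baseChange_tmul, map_D_t B t ht,
      TensorProduct.tmul_zero, smul_zero]

omit [Algebra.FiniteType k B] [Module.Flat D B] in
theorem baseChange_surjective :
    Function.Surjective
      (LinearMap.baseChange (B ⧸ Ideal.span {t ^ n}) (KaehlerDifferential.map k D B B)) := by
  have hsurj : Function.Surjective (KaehlerDifferential.map k D B B) :=
    KaehlerDifferential.map_surjective k D B
  exact LinearMap.lTensor_surjective (B ⧸ Ideal.span {t ^ n}) hsurj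

include he ht hsm in
theorem main837 :
    Module.Projective B (Ω[B⁄D]) ∧
    Module.Projective (B ⧸ Ideal.span {t ^ n}) ((B ⧸ Ideal.span {t ^ n}) ⊗[B] Ω[B⁄k]) ∧
    Function.Injective
      (LinearMap.toSpanSingleton (B ⧸ Ideal.span {t ^ n}) ((B ⧸ Ideal.span {t ^ n}) ⊗[B] Ω[B⁄k])
        ((1 : (B ⧸ Ideal.span {t ^ n})) ⊗ₜ[B] KaehlerDifferential.D k B t)) ∧
    Function.Exact
      (LinearMap.toSpanSingleton (B ⧸ Ideal.span {t ^ n}) ((B ⧸ Ideal.span {t ^ n}) ⊗[B] Ω[B⁄k])
        ((1 : (B ⧸ Ideal.span {t ^ n})) ⊗ₜ[B] KaehlerDifferential.D k B t))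
      (LinearMap.baseChange (B ⧸ Ideal.span {t ^ n}) (KaehlerDifferential.map k D B B)) ∧
    Function.Surjective
      (LinearMap.baseChange (B ⧸ Ideal.span {t ^ n}) (KaehlerDifferential.map k D B B)) := by
  haveI := smooth_over_D e he B t ht hsm
  have hinj := toSpanSingleton_injective e he B t ht hsm
  have hex := exact_seq e he B t ht
  have hsurj := baseChange_surjective (k := k) (D := D) (n := n) B t
  refine ⟨inferInstance, ?_, hinj, hex, hsurj⟩
  obtain ⟨l, hl⟩ := Module.projective_lifting_property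
    (LinearMap.baseChange (B ⧸ Ideal.span {t ^ n}) (KaehlerDifferential.map k D B B))
    LinearMap.id hsurj
  obtain ⟨e1, -, -⟩ := hex.splitSurjectiveEquiv hinj ⟨l, hl⟩
  exact Module.Projective.of_equiv e1.symm

end Seq

end Groth.Agent.H5.TruncDef
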