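import Mathlib
import Groth.Agent.Lib.Helper5.TruncDef.C

set_option autoImplicit false

namespace Groth.Agent.H5.TruncDef

open Polynomial KaehlerDifferential TensorProduct

universe u

section M838

variable {k : Type u} [Field k] [CharZero k] {n : ℕ} (hn : 1 ≤ n)
  {D : Type u} [CommRing D] [Algebra k D] {τ : D}
  (e : (k[X] ⧸ Ideal.span {(X : k[X]) ^ (n + 1)}) ≃ₐ[k] D)
  (he : e (Ideal.Quotient.mk (Ideal.span {(X : k[X]) ^ (n + 1)}) X) = τ)
  (B : Type u) [CommRing B] [Algebra k B] [Algebra D B] [IsScalarTower k D B]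
  (t : B) (ht : t = algebraMap D B τ)

include he ht in
lemma t_pow : t ^ (n + 1) = 0 := by
  rw [ht, ← map_pow, tau_pow e he, map_zero]

/-- Any element of the kernel of `mapBaseChange R B B'` is of the form `1 ⊗ d i`, `i ∈ (t^n)`. -/
lemma ker_mapBaseChange {R : Type*} [CommRing R] [Algebra R B]
    (α : (B ⧸ Ideal.span {t ^ n}) ⊗[B] Ω[B⁄R])
    (hα : mapBaseChange R B (B ⧸ Ideal.span {t ^ n}) α = 0) :
    ∃ i ∈ Ideal.span {t ^ n}, α = (1 : B ⧸ Ideal.span {t ^ n}) ⊗ₜ[B] KaehlerDifferential.D R B i := by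
  have hsurj : Function.Surjective (algebraMap B (B ⧸ Ideal.span {t ^ n})) :=
    Ideal.Quotient.mk_surjective
  obtain ⟨c, rfl⟩ :=
    (KaehlerDifferential.exact_kerCotangentToTensor_mapBaseChange R B (B ⧸ Ideal.span {t ^ n})
      hsurj α).mp hα
  obtain ⟨i, rfl⟩ := Ideal.toCotangent_surjective _ c
  refine ⟨i.1, ?_, ?_⟩
  · have h1 : algebraMap B (B ⧸ Ideal.span {t ^ n}) i.1 = 0 := i.2
    exact Ideal.Quotient.eq_zero_iff_mem.mp h1
  · rw [kerCotangentToTensor_toCotangent]

variable [Algebra.FiniteType k B] [Module.Flat D B]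
  (hsm : Algebra.Smooth k (B ⧸ Ideal.span {t}))

include hn he ht hsm in
theorem main838 :
    Function.Injective (fun f : B =>
      ((Ideal.Quotient.mk (Ideal.span {t ^ n}) f,
        (1 : (B ⧸ Ideal.span {t ^ n})) ⊗ₜ[B] KaehlerDifferential.D k B f) :
        (B ⧸ Ideal.span {t ^ n}) × ((B ⧸ Ideal.span {t ^ n}) ⊗[B] Ω[B⁄k]))) ∧
    Set.range (fun f : B =>
      ((Ideal.Quotient.mk (Ideal.span {t ^ n}) f,
        (1 : (B ⧸ Ideal.span {t ^ n})) ⊗ₜ[B] KaehlerDifferential.D k B f) :
        (B ⧸ Ideal.span {t ^ n}) × ((B ⧸ Ideal.span {t ^ n}) ⊗[B] Ω[B⁄k]))) =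
      {p | KaehlerDifferential.D k (B ⧸ Ideal.span {t ^ n}) p.1 =
        KaehlerDifferential.mapBaseChange k B (B ⧸ Ideal.span {t ^ n}) p.2} := by
  constructor
  · intro f1 f2 h12
    simp only [Prod.mk.injEq] at h12
    obtain ⟨h1, h2⟩ := h12
    rw [← sub_eq_zero] at h1 h2 ⊢
    rw [← map_sub, Ideal.Quotient.eq_zero_iff_mem, Ideal.mem_span_singleton] at h1
    rw [← TensorProduct.tmul_sub, ← map_sub] at h2
    obtain ⟨h, hh⟩ := h1
    rw [hh] at h2 ⊢
    have hinj := toSpanSingleton_injective e he B t ht hsm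
    have hmk : Ideal.Quotient.mk (Ideal.span {t ^ n}) (t ^ n) = 0 :=
      Ideal.Quotient.eq_zero_iff_mem.mpr (Ideal.mem_span_singleton_self _)
    have key : (1 : B ⧸ Ideal.span {t ^ n}) ⊗ₜ[B] KaehlerDifferential.D k B (t ^ n * h) =
        LinearMap.toSpanSingleton (B ⧸ Ideal.span {t ^ n})
          ((B ⧸ Ideal.span {t ^ n}) ⊗[B] Ω[B⁄k])
          ((1 : (B ⧸ Ideal.span {t ^ n})) ⊗ₜ[B] KaehlerDifferential.D k B t)
          (Ideal.Quotient.mk (Ideal.span {t ^ n}) (h * ((n : B) * t ^ (n - 1)))) := by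
      rw [Derivation.leibniz, Derivation.leibniz_pow, TensorProduct.tmul_add,
        ← TensorProduct.smul_tmul, Algebra.smul_def, Ideal.Quotient.algebraMap_eq, hmk, zero_mul,
        TensorProduct.zero_tmul, zero_add, LinearMap.toSpanSingleton_apply,
        TensorProduct.smul_tmul', smul_eq_mul, mul_one, ← Nat.cast_smul_eq_nsmul B n, smul_smul,
        smul_smul, ← TensorProduct.smul_tmul, Algebra.smul_def, Ideal.Quotient.algebraMap_eq,
        mul_one, mul_assoc]
    rw [key] at h2
    have h3 := hinj (h2.trans (map_zero _).symm)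
    rw [Ideal.Quotient.eq_zero_iff_mem, Ideal.mem_span_singleton] at h3
    obtain ⟨h', hh'⟩ := h3
    have h4 : (n : B) * (t ^ n * h) = 0 := by
      have htn : t ^ n = t * t ^ (n - 1) := by
        rw [← pow_succ', Nat.sub_add_cancel hn]
      calc (n : B) * (t ^ n * h) = t * (h * ((n : B) * t ^ (n - 1))) := by rw [htn]; ring
        _ = t ^ (n + 1) * h' := by rw [hh']; ring
        _ = 0 := by rw [t_pow e he B t ht, zero_mul]
    have hu : IsUnit ((n : B)) := by
      have : (n : B) = algebraMap k B (n : k) := (map_natCast _ n).symm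
      rw [this]
      apply IsUnit.map
      apply IsUnit.mk0
      exact_mod_cast (Nat.pos_iff_ne_zero.mp hn)
    exact (hu.mul_right_eq_zero).mp h4
  · ext ⟨g, α⟩
    simp only [Set.mem_range, Set.mem_ofPred_eq, Prod.mk.injEq]
    constructor
    · rintro ⟨f, rfl, rfl⟩
      rw [mapBaseChange_tmul, one_smul, map_D, Ideal.Quotient.algebraMap_eq]
    · intro hp
      obtain ⟨f0, rfl⟩ := Ideal.Quotient.mk_surjective g
      have h0 : mapBaseChange k B (B ⧸ Ideal.span {t ^ n})
          (α - (1 : B ⧸ Ideal.span {t ^ n}) ⊗ₜ[B] KaehlerDifferential.D k B f0) = 0 := by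
        rw [map_sub, ← hp, mapBaseChange_tmul, one_smul, map_D, Ideal.Quotient.algebraMap_eq,
          sub_self]
      obtain ⟨i, hi, hα⟩ := ker_mapBaseChange (R := k) B t _ h0
      refine ⟨f0 + i, ?_, ?_⟩
      · rw [map_add, Ideal.Quotient.eq_zero_iff_mem.mpr hi, add_zero]
      · rw [map_add, TensorProduct.tmul_add, ← hα]
        abel

include ht in
omit [Algebra.FiniteType k B] [Module.Flat D B] [CharZero k] in
/-- `B' ⊗ Ω[B/D] → Ω[B'/D]` is injective. -/
lemma mapBaseChange_D_injective :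
    Function.Injective (mapBaseChange D B (B ⧸ Ideal.span {t ^ n})) := by
  rw [injective_iff_map_eq_zero]
  intro α hα
  obtain ⟨i, hi, rfl⟩ := ker_mapBaseChange (R := D) B t α hα
  rw [Ideal.mem_span_singleton] at hi
  obtain ⟨h, rfl⟩ := hi
  have hmk : Ideal.Quotient.mk (Ideal.span {t ^ n}) (t ^ n) = 0 :=
    Ideal.Quotient.eq_zero_iff_mem.mpr (Ideal.mem_span_singleton_self _)
  have hD : KaehlerDifferential.D D B (t ^ n) = 0 := by
    rw [ht, ← map_pow]
    exact (KaehlerDifferential.D D B).map_algebraMap _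
  rw [Derivation.leibniz, hD, smul_zero, add_zero, ← TensorProduct.smul_tmul, Algebra.smul_def,
    Ideal.Quotient.algebraMap_eq, hmk, zero_mul, TensorProduct.zero_tmul]

omit [Algebra.FiniteType k B] [Module.Flat D B] [CharZero k] in
lemma map_comp_eq (η : Ω[B⁄k]) :
    KaehlerDifferential.map D D B (B ⧸ Ideal.span {t ^ n}) (KaehlerDifferential.map k D B B η) =
      KaehlerDifferential.map k D (B ⧸ Ideal.span {t ^ n}) (B ⧸ Ideal.span {t ^ n})
        (KaehlerDifferential.map k k B (B ⧸ Ideal.span {t ^ n}) η) := by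
  have hη : η ∈ Submodule.span B (Set.range (KaehlerDifferential.D k B)) := by
    rw [KaehlerDifferential.span_range_derivation]
    exact Submodule.mem_top
  induction hη using Submodule.span_induction with
  | mem x hx =>
    obtain ⟨b, rfl⟩ := hx
    simp only [map_D, Algebra.algebraMap_self, RingHom.id_apply]
  | zero => simp only [map_zero]
  | add x y _ _ hx hy => simp only [map_add, hx, hy]
  | smul b x _ hx =>
    rw [map_smul, map_smul, hx,
      LinearMap.map_smul (KaehlerDifferential.map k k B (B ⧸ Ideal.span {t ^ n})),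
      ← algebraMap_smul (B ⧸ Ideal.span {t ^ n}) b
        (KaehlerDifferential.map k k B (B ⧸ Ideal.span {t ^ n}) x),
      LinearMap.map_smul, algebraMap_smul]

omit [Algebra.FiniteType k B] [Module.Flat D B] [CharZero k] in
lemma map_mapBaseChange_eq (β : (B ⧸ Ideal.span {t ^ n}) ⊗[B] Ω[B⁄k]) :
    KaehlerDifferential.map k D (B ⧸ Ideal.span {t ^ n}) (B ⧸ Ideal.span {t ^ n})
        (mapBaseChange k B (B ⧸ Ideal.span {t ^ n}) β) =
      mapBaseChange D B (B ⧸ Ideal.span {t ^ n})
        (LinearMap.baseChange (B ⧸ Ideal.span {t ^ n}) (KaehlerDifferential.map k D B B) β) := by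
  induction β using TensorProduct.induction_on with
  | zero => simp only [map_zero]
  | add x y hx hy => simp only [map_add, hx, hy]
  | tmul b' η =>
    rw [mapBaseChange_tmul, LinearMap.map_smul, LinearMap.baseChange_tmul, mapBaseChange_tmul,
      map_comp_eq]

include he ht in
omit [Algebra.FiniteType k B] [Module.Flat D B] [CharZero k] in
lemma exists_eq_smul_D_t (η : Ω[B⁄k]) (hη : KaehlerDifferential.map k D B B η = 0) :
    ∃ b : B, η = b • KaehlerDifferential.D k B t := by
  obtain ⟨z, rfl⟩ := (KaehlerDifferential.exact_mapBaseChange_map k D B η).mp hη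
  clear hη
  have hz : ∃ b : B, z = b ⊗ₜ[D] KaehlerDifferential.D k D τ := by
    induction z using TensorProduct.induction_on with
    | zero => exact ⟨0, (TensorProduct.zero_tmul _ _).symm⟩
    | add x y hx hy =>
      obtain ⟨b1, rfl⟩ := hx
      obtain ⟨b2, rfl⟩ := hy
      exact ⟨b1 + b2, (TensorProduct.add_tmul _ _ _).symm⟩
    | tmul b ω =>
      have hω : ω ∈ Submodule.span D {KaehlerDifferential.D k D τ} := by
        rw [span_D_tau e he]
        exact Submodule.mem_top
      obtain ⟨d, rfl⟩ := Submodule.mem_span_singleton.mp hω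
      exact ⟨d • b, (TensorProduct.smul_tmul d b _).symm⟩
  obtain ⟨b, rfl⟩ := hz
  exact ⟨b, by rw [mapBaseChange_tmul, map_D, ← ht]⟩

include he ht in
omit [Algebra.FiniteType k B] [Module.Flat D B] in
lemma t_pow_smul_D_t : t ^ n • KaehlerDifferential.D k B t = 0 := by
  have h1 : KaehlerDifferential.D k B (t ^ (n + 1)) = 0 := by
    rw [t_pow e he B t ht, map_zero]
  rw [Derivation.leibniz_pow, Nat.add_sub_cancel, ← Nat.cast_smul_eq_nsmul B (n + 1)] at h1
  have hu : IsUnit (((n + 1 : ℕ)) : B) := by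
    have : (((n + 1 : ℕ)) : B) = algebraMap k B ((n + 1 : ℕ) : k) := (map_natCast _ _).symm
    rw [this]
    apply IsUnit.map
    apply IsUnit.mk0
    exact_mod_cast Nat.succ_ne_zero n
  exact (hu.smul_eq_zero).mp h1

include he ht hsm in
theorem main839 :
    Function.Injective (fun η : Ω[B⁄k] =>
      ((KaehlerDifferential.map k D B B η, (1 : (B ⧸ Ideal.span {t ^ n})) ⊗ₜ[B] η) :
        Ω[B⁄D] × ((B ⧸ Ideal.span {t ^ n}) ⊗[B] Ω[B⁄k]))) ∧
    Set.range (fun η : Ω[B⁄k] =>
      ((KaehlerDifferential.map k D B B η, (1 : (B ⧸ Ideal.span {t ^ n})) ⊗ₜ[B] η) :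
        Ω[B⁄D] × ((B ⧸ Ideal.span {t ^ n}) ⊗[B] Ω[B⁄k]))) =
      {p | KaehlerDifferential.map D D B (B ⧸ Ideal.span {t ^ n}) p.1 =
        KaehlerDifferential.map k D (B ⧸ Ideal.span {t ^ n}) (B ⧸ Ideal.span {t ^ n})
          (KaehlerDifferential.mapBaseChange k B (B ⧸ Ideal.span {t ^ n}) p.2)} := by
  have hinj := toSpanSingleton_injective e he B t ht hsm
  have hexact := exact_seq e he B t ht
  constructor
  · intro η1 η2 h12
    simp only [Prod.mk.injEq] at h12
    obtain ⟨h1, h2⟩ := h12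
    rw [← sub_eq_zero] at h1 h2 ⊢
    rw [← map_sub] at h1
    rw [← TensorProduct.tmul_sub] at h2
    obtain ⟨b, hb⟩ := exists_eq_smul_D_t e he B t ht _ h1
    rw [hb] at h2 ⊢
    have h3 : LinearMap.toSpanSingleton (B ⧸ Ideal.span {t ^ n})
          ((B ⧸ Ideal.span {t ^ n}) ⊗[B] Ω[B⁄k])
          ((1 : (B ⧸ Ideal.span {t ^ n})) ⊗ₜ[B] KaehlerDifferential.D k B t)
          (Ideal.Quotient.mk (Ideal.span {t ^ n}) b) = 0 := by
      rw [LinearMap.toSpanSingleton_apply, TensorProduct.smul_tmul', smul_eq_mul, mul_one, ← h2,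
        ← TensorProduct.smul_tmul, Algebra.smul_def, Ideal.Quotient.algebraMap_eq, mul_one]
    have h4 := hinj (h3.trans (map_zero _).symm)
    rw [Ideal.Quotient.eq_zero_iff_mem, Ideal.mem_span_singleton] at h4
    obtain ⟨h, rfl⟩ := h4
    rw [mul_comm, mul_smul, t_pow_smul_D_t e he B t ht, smul_zero]
  · ext ⟨α, β⟩
    simp only [Set.mem_range, Set.mem_ofPred_eq, Prod.mk.injEq]
    constructor
    · rintro ⟨η, rfl, rfl⟩
      rw [mapBaseChange_tmul, one_smul, map_comp_eq]
    · intro hp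
      obtain ⟨η0, rfl⟩ := KaehlerDifferential.map_surjective k D B α
      have h0 : LinearMap.baseChange (B ⧸ Ideal.span {t ^ n}) (KaehlerDifferential.map k D B B)
          (β - (1 : B ⧸ Ideal.span {t ^ n}) ⊗ₜ[B] η0) = 0 := by
        apply mapBaseChange_D_injective B t ht
        rw [← map_mapBaseChange_eq, map_sub, map_sub, ← hp, mapBaseChange_tmul, one_smul,
          map_comp_eq, sub_self, map_zero]
      obtain ⟨b', hb'⟩ := (hexact _).mp h0
      obtain ⟨b, rfl⟩ := Ideal.Quotient.mk_surjective b'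
      refine ⟨η0 + b • KaehlerDifferential.D k B t, ?_, ?_⟩
      · rw [map_add, map_smul, map_D_t B t ht, smul_zero, add_zero]
      · rw [TensorProduct.tmul_add, TensorProduct.tmul_smul]
        rw [LinearMap.toSpanSingleton_apply] at hb'
        have : b • ((1 : B ⧸ Ideal.span {t ^ n}) ⊗ₜ[B] KaehlerDifferential.D k B t) =
            Ideal.Quotient.mk (Ideal.span {t ^ n}) b •
              ((1 : B ⧸ Ideal.span {t ^ n}) ⊗ₜ[B] KaehlerDifferential.D k B t) := by
          rw [← Ideal.Quotient.algebraMap_eq, algebraMap_smul]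
        rw [this, hb']
        abel

end M838

end Groth.Agent.H5.TruncDef
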